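import Mathlib.RingTheory.RootsOfUnity.PrimitiveRoots
import Mathlib.Analysis.SpecialFunctions.Complex.Circle
import Mathlib.Data.Complex.Basic
import Mathlib.Tactic

namespace Groth.Agent.OrbRR52

open Finset

variable {K : Type*} [Field K]

theorem two_sub_ne_zero {z : K} (h0 : z ≠ 0) (h1 : z ≠ 1) : (2 : K) - z - z⁻¹ ≠ 0 := by
  intro h
  apply h1
  have : (z - 1) ^ 2 = 0 := by
    field_simp at h
    linear_combination (-1 : K) * h
  exact sub_eq_zero.mp (pow_eq_zero_iff (n := 2) two_ne_zero |>.mp this)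

theorem sum_range_pow {N : ℕ} {ζ : K} (hζ : IsPrimitiveRoot ζ N) {j : ℕ} (hj : ¬ N ∣ j) :
    ∑ i ∈ range N, ζ ^ (i * j) = 0 := by
  have h1 : ζ ^ j ≠ 1 := fun h => hj ((hζ.pow_eq_one_iff_dvd j).mp h)
  simp only [mul_comm _ j, pow_mul]
  rw [geom_sum_eq h1, ← pow_mul, mul_comm, pow_mul, hζ.pow_eq_one, one_pow, sub_self, zero_div]

theorem sum_Ioo_pow {N : ℕ} (hN : 0 < N) {ζ : K} (hζ : IsPrimitiveRoot ζ N) {j : ℕ} (hj : ¬ N ∣ j) :
    ∑ i ∈ Ioo 0 N, ζ ^ (i * j) = -1 := by
  have h := sum_range_pow hζ hj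
  rw [Finset.range_eq_Ico, ← Finset.sum_Ioo_add_eq_sum_Ico hN, zero_mul, pow_zero] at h
  linear_combination h

/-- The trigonometric sum. -/
def trig (N : ℕ) (ζ : K) (j : ℕ) : K := ∑ i ∈ Ioo 0 N, ζ ^ (i * j) / (2 - ζ ^ i - (ζ ^ i)⁻¹)

theorem trig_rec {N : ℕ} {ζ : K} (hζ : IsPrimitiveRoot ζ N) (j : ℕ) (hj : j + 1 < N) :
    trig N ζ (j + 2) - 2 * trig N ζ (j + 1) + trig N ζ j = 1 := by
  have hN : 0 < N := by omega
  have h0 : ζ ≠ 0 := hζ.ne_zero hN.ne'
  rw [← neg_inj, ← sum_Ioo_pow hN hζ (fun h => by have := Nat.le_of_dvd (by omega) h; omega : ¬ N ∣ j + 1)]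
  simp only [trig, Finset.mul_sum, ← Finset.sum_sub_distrib, ← Finset.sum_add_distrib, ← Finset.sum_neg_distrib]
  refine Finset.sum_congr rfl fun i hi => ?_
  rw [Finset.mem_Ioo] at hi
  have hz : ζ ^ i ≠ 1 := hζ.pow_ne_one_of_pos_of_lt (by omega) hi.2
  have hd := two_sub_ne_zero (pow_ne_zero i h0) hz
  simp only [mul_add, pow_add, mul_one, pow_mul]
  set z := ζ ^ i
  have hz0 : z ≠ 0 := pow_ne_zero i h0
  rw [← mul_div_assoc, ← sub_div, ← add_div, ← neg_div, div_eq_iff hd]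
  field_simp
  ring

theorem sum_id_mul_sub (c : K) : ∀ M : ℕ, ∑ j ∈ range M, 6 * ((j : K) * ((j : K) - c)) =
    (M : K) * ((M : K) - 1) * (2 * (M : K) - 1 - 3 * c) := by
  intro M
  induction M with
  | zero => simp
  | succ M ih => rw [Finset.sum_range_succ, ih]; push_cast; ring

theorem trig_eq (h6 : (6 : K) ≠ 0) {N : ℕ} {ζ : K} (hζ : IsPrimitiveRoot ζ N) {j : ℕ} (hj : j < N) :
    trig N ζ j = (j : K) * ((j : K) - (N : K)) / 2 + ((N : K) ^ 2 - 1) / 12 := by
  have hN : 0 < N := by omega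
  haveI : NeZero N := ⟨hN.ne'⟩
  have hNK : (N : K) ≠ 0 := NeZero.ne' (n := (N : K)) (h := hζ.neZero') |>.symm
  have h2 : (2 : K) ≠ 0 := fun h => h6 (by linear_combination (3 : K) * h)
  have h3 : (3 : K) ≠ 0 := fun h => h6 (by linear_combination (2 : K) * h)
  set f0 := trig N ζ 0
  set f1 := trig N ζ 1
  have hquad : ∀ i, i ≤ N → 2 * trig N ζ i = 2 * f0 + 2 * (i : K) * (f1 - f0) + (i : K) * ((i : K) - 1) := by
    intro i
    induction i using Nat.strong_induction_on with
    | _ i ih =>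
      intro hi
      match i with
      | 0 => simp [f0]
      | 1 => simp [f1]; ring
      | i + 2 =>
        have := trig_rec hζ i (by omega)
        have a := ih i (by omega) (by omega)
        have b := ih (i + 1) (by omega) (by omega)
        push_cast at a b ⊢
        linear_combination 2 * this - a + 2 * b
  have hper : trig N ζ N = f0 := by
    refine Finset.sum_congr rfl fun i _ => ?_
    rw [mul_comm i N, pow_mul, hζ.pow_eq_one, one_pow, mul_zero, pow_zero]
  have hslope : 2 * (f1 - f0) = 1 - (N : K) := by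
    have h := hquad N le_rfl
    rw [hper] at h
    refine mul_left_cancel₀ hNK ?_
    linear_combination (-1 : K) * h
  have hall : ∀ i, i ≤ N → 2 * trig N ζ i = 2 * f0 + (i : K) * ((i : K) - (N : K)) := fun i hi => by
    linear_combination hquad i hi + (i : K) * hslope
  have hsum : ∑ i ∈ range N, trig N ζ i = 0 := by
    simp only [trig]
    rw [Finset.sum_comm]
    refine Finset.sum_eq_zero fun l hl => ?_
    rw [Finset.mem_Ioo] at hl
    rw [← Finset.sum_div, Finset.sum_congr rfl fun i _ => by rw [mul_comm l i],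
      sum_range_pow hζ (fun h => by have := Nat.le_of_dvd hl.1 h; omega), zero_div]
  have hf0 : 12 * f0 = (N : K) ^ 2 - 1 := by
    refine mul_left_cancel₀ hNK ?_
    have h := sum_id_mul_sub (N : K) N
    have h' : ∑ i ∈ range N, (6 * ((i : K) * ((i : K) - (N : K))) + 12 * f0) =
        ∑ i ∈ range N, 12 * trig N ζ i :=
      Finset.sum_congr rfl fun i hi => by
        linear_combination (-6 : K) * hall i (Finset.mem_range.mp hi).le
    rw [Finset.sum_add_distrib, h, Finset.sum_const, Finset.card_range, nsmul_eq_mul, ← Finset.mul_sum, hsum,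
      mul_zero] at h'
    linear_combination h'
  have h12 : (12 : K) ≠ 0 := by
    rw [show (12 : K) = 6 * 2 by norm_num]
    exact mul_ne_zero h6 h2
  refine mul_left_cancel₀ h12 ?_
  rw [mul_add, mul_div_cancel₀ _ h12, show (12 : K) * ((j : K) * ((j : K) - (N : K)) / 2) = 6 * ((j : K) * ((j : K) - (N : K))) by field_simp; ring]
  linear_combination 6 * hall j hj.le + hf0

theorem denom_eq_normSq {N : ℕ} (hN : N ≠ 0) {ζ : ℂ} (hζ : IsPrimitiveRoot ζ N) (i : ℕ) :
    2 - ζ ^ i - (ζ ^ i)⁻¹ = ((Complex.normSq (1 - ζ ^ i) : ℝ) : ℂ) := by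
  have h : Complex.normSq (ζ ^ i) = 1 := by
    rw [Complex.normSq_eq_norm_sq, norm_pow, hζ.norm'_eq_one hN, one_pow, one_pow]
  rw [Complex.inv_def, h, inv_one, Complex.ofReal_one, mul_one, Complex.normSq_eq_conj_mul_self, map_sub, map_one]
  have h' : (starRingEnd ℂ) (ζ ^ i) * ζ ^ i = 1 := by rw [← Complex.normSq_eq_conj_mul_self, h, Complex.ofReal_one]
  linear_combination (-1 : ℂ) * h'

end Groth.Agent.OrbRR52
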